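import Groth.Agent.Lib.RigDesc26.Pic
import Groth.Agent.Lib.RigDesc26.Disjoint
import Groth.Agent.Lib.RigDesc26.Points
import Groth.Agent.Lib.FEtLimit21.FieldExt
import Groth.Agent.Lib.AmpSpread10.Descend
import Groth.Agent.Lib.Seesaw26.Descent
import Groth.Prelude.Def_PicF2
import Mathlib.FieldTheory.Galois.Infinite

/-!
# Galois descent of classes of invertible modules on a scheme with a rational point
-/

set_option autoImplicit false
set_option linter.all false
set_option backward.isDefEq.respectTransparency false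
set_option maxHeartbeats 1000000
set_option synthInstance.maxHeartbeats 200000

universe u

open CategoryTheory CategoryTheory.Limits AlgebraicGeometry Opposite TopologicalSpace
open GrothLib.Cube
open GrothLib.PicDescent (sec q₁ q₂)
open scoped TensorProduct

noncomputable section

namespace GrothLib.GalPic26

/-- Classes on a scheme with one point are trivial. -/
theorem eq_one_of_subsingleton {Y : Scheme.{u}} [Subsingleton Y] [Nonempty Y] (n : Pic Y) : n = 1 := by
  obtain ⟨U, hy, hU⟩ := RigDesc26.exists_pull_eq_one n (Classical.arbitrary Y)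
  obtain rfl : U = ⊤ := eq_top_iff.2 fun z _ => Subsingleton.elim (Classical.arbitrary Y) z ▸ hy
  have h := congrArg (pull Y.topIso.inv) hU
  rwa [pull_comp, map_one, ← Scheme.topIso_hom, Iso.inv_hom_id, pull_id] at h

section Split

variable (k K : Type u) [Field k] [Field K] [Algebra k K]

/-- The structure map. -/
abbrev e : Spec (CommRingCat.of K) ⟶ Spec (CommRingCat.of k) := Spec.map (CommRingCat.ofHom (algebraMap k K))

/-- The action of an automorphism. -/
abbrev act (σ : K ≃ₐ[k] K) : Spec (CommRingCat.of K) ⟶ Spec (CommRingCat.of K) :=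
  Spec.map (CommRingCat.ofHom (σ : K →+* K))

theorem act_e (σ : K ≃ₐ[k] K) : act k K σ ≫ e k K = e k K := by
  rw [← Spec.map_comp, ← CommRingCat.ofHom_comp]; congr 2; ext x; simp

/-- The evaluation at an automorphism. -/
abbrev ψ (σ : K ≃ₐ[k] K) : K ⊗[k] K →ₐ[k] K :=
  Algebra.TensorProduct.lift (AlgHom.id k K) σ.toAlgHom fun _ _ => Commute.all _ _

theorem bijective_pi_ψ [FiniteDimensional k K] [IsGalois k K] :
    Function.Bijective (RingHom.pi fun σ => (ψ k K σ).toRingHom) := by
  let L : K ⊗[k] K →ₗ[K] ((K ≃ₐ[k] K) → K) := LinearMap.pi fun σ =>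
    (Algebra.TensorProduct.lift (AlgHom.id K K) σ.toAlgHom fun _ _ => Commute.all _ _).toLinearMap
  have hsurj : Function.Surjective L := by
    rw [← LinearMap.range_eq_top]
    by_contra hne
    obtain ⟨φ, hφ, hle⟩ := Submodule.exists_le_ker_of_lt_top _ (lt_top_iff_ne_top.2 hne)
    refine hφ ?_
    classical
    have hc : ∀ σ, φ (Pi.single σ 1) = 0 := by
      refine Fintype.linearIndependent_iff.1 ((linearIndependent_toLinearMap k K K).comp
        (fun σ : K ≃ₐ[k] K => σ.toAlgHom) AlgEquiv.coe_algHom_injective) (fun σ => φ (Pi.single σ 1)) ?_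
      ext b
      have hb := hle ⟨(1 : K) ⊗ₜ[k] b, rfl⟩
      rw [LinearMap.mem_ker, pi_eq_sum_univ (L ((1 : K) ⊗ₜ[k] b)), map_sum] at hb
      simp only [map_smul, smul_eq_mul] at hb
      rw [LinearMap.zero_apply, LinearMap.sum_apply, ← hb]
      refine Finset.sum_congr rfl fun σ _ => ?_
      have : (Pi.single σ (1 : K) : (K ≃ₐ[k] K) → K) = fun j => if σ = j then (1 : K) else 0 := by
        ext j; simp [Pi.single_apply, eq_comm]
      simp [L, this, mul_comm]
    refine LinearMap.ext fun v => ?_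
    rw [pi_eq_sum_univ v, map_sum]
    refine Finset.sum_eq_zero fun σ _ => ?_
    have : (Pi.single σ (1 : K) : (K ≃ₐ[k] K) → K) = fun j => if σ = j then (1 : K) else 0 := by
      ext j; simp [Pi.single_apply, eq_comm]
    rw [map_smul, ← this, hc, smul_zero]
  have hinj : Function.Injective L := by
    refine (LinearMap.injective_iff_surjective_of_finrank_eq_finrank ?_).2 hsurj
    rw [Module.finrank_baseChange, Module.finrank_fintype_fun_eq_card, ← Nat.card_eq_fintype_card,
      IsGalois.card_aut_eq_finrank]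
  have : ((RingHom.pi fun σ => (ψ k K σ).toRingHom) : K ⊗[k] K → (K ≃ₐ[k] K) → K) = L := by
    funext x σ
    induction x with
    | zero => simp [L]
    | add a b ha hb => simp only [map_add, Pi.add_apply]; rw [ha, hb]
    | tmul a b => simp [L, ψ]
  rw [this]; exact ⟨hinj, hsurj⟩

/-- The graph of an automorphism. -/
abbrev gr (σ : K ≃ₐ[k] K) : Spec (CommRingCat.of K) ⟶ pullback (e k K) (e k K) :=
  pullback.lift (𝟙 _) (act k K σ) (by rw [Category.id_comp, act_e])

variable [FiniteDimensional k K] [IsGalois k K]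

theorem exists_split : ∃ I : (∐ fun _ : K ≃ₐ[k] K => Spec (CommRingCat.of K)) ≅ pullback (e k K) (e k K),
    ∀ σ, Sigma.ι (fun _ : K ≃ₐ[k] K => Spec (CommRingCat.of K)) σ ≫ I.hom = gr k K σ := by
  haveI : IsIso (CommRingCat.ofHom (RingHom.pi fun σ => (ψ k K σ).toRingHom)) :=
    (ConcreteCategory.isIso_iff_bijective _).2 (bijective_pi_ψ k K)
  refine ⟨asIso (sigmaSpec (fun _ : K ≃ₐ[k] K => CommRingCat.of K)) ≪≫
    asIso (Spec.map (CommRingCat.ofHom (RingHom.pi fun σ => (ψ k K σ).toRingHom))) ≪≫
      (pullbackSpecIso k K K).symm, fun σ => ?_⟩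
  have h : Sigma.ι (fun _ : K ≃ₐ[k] K => Spec (CommRingCat.of K)) σ ≫ sigmaSpec (fun _ : K ≃ₐ[k] K => CommRingCat.of K) ≫
      Spec.map (CommRingCat.ofHom (RingHom.pi fun σ => (ψ k K σ).toRingHom)) =
        Spec.map (CommRingCat.ofHom (ψ k K σ).toRingHom) := by
    rw [ι_sigmaSpec_assoc, ← Spec.map_comp]; rfl
  simp only [Iso.trans_hom, asIso_hom, Iso.symm_hom]
  rw [← Category.assoc (sigmaSpec _), ← Category.assoc, h, Iso.comp_inv_eq]
  refine (cancel_mono (pullbackSpecIso k K K).inv).1 ?_
  rw [Category.assoc, Iso.hom_inv_id, Category.comp_id]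
  refine pullback.hom_ext ?_ ?_
  · rw [Category.assoc, pullback.lift_fst, pullbackSpecIso_inv_fst, ← Spec.map_comp]
    rw [show CommRingCat.ofHom _ ≫ CommRingCat.ofHom (ψ k K σ).toRingHom = CommRingCat.ofHom (RingHom.id K) from ?_,
      CommRingCat.ofHom_id, Spec.map_id]
    ext x; simp [ψ]
  · rw [Category.assoc, pullback.lift_snd, pullbackSpecIso_inv_snd, ← Spec.map_comp]
    congr 1
    ext x; simp [ψ]

end Split

section Finite

variable {k : Type u} [Field k] {X : Scheme.{u}} (f : X ⟶ Spec (CommRingCat.of k)) [QuasiCompact f] [QuasiSeparated f]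
  (x : Spec (CommRingCat.of k) ⟶ X) (hx : x ≫ f = 𝟙 _)

theorem bijective_app_field (hH0 : IsIso f.appTop) (U : (Spec (CommRingCat.of k)).Opens) : Function.Bijective (f.app U) := by
  rcases em (U = ⊥) with rfl | h
  · haveI : Subsingleton Γ(X, f ⁻¹ᵁ ⊥) := by
      rw [show f ⁻¹ᵁ ⊥ = ⊥ from rfl]; infer_instance
    exact ⟨fun a b _ => Subsingleton.elim a b, fun b => ⟨0, Subsingleton.elim _ _⟩⟩
  · obtain rfl : U = ⊤ := eq_top_iff.2 fun z _ => by
      by_contra hz
      exact h (le_bot_iff.1 fun w hw => (hz (Subsingleton.elim (α := PrimeSpectrum k) w z ▸ hw)).elim)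
    exact ConcreteCategory.bijective_of_isIso f.appTop

variable (K : Type u) [Field K] [Algebra k K] [FiniteDimensional k K] [IsGalois k K]

include hx in
/-- **Galois descent** for a finite extension. -/
theorem exists_of_fix (hH0 : IsIso f.appTop) (a : Pic (pullback f (e k K)))
    (ha : ∀ σ : K ≃ₐ[k] K, pull (PicF2.twistAut f σ) a = a) :
    ∃ n : Pic X, pull (pullback.fst f (e k K)) n = a := by
  have hb : ∀ {T : Scheme.{u}} (g : T ⟶ Spec (CommRingCat.of k)) (W : T.Opens),
      Function.Bijective ((pullback.snd f g).app W) := fun g W =>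
    haveI : Flat g := inferInstance
    Seesaw26.bijective_app_of_flat_baseChange f (bijective_app_field f hH0) g W
  haveI : Flat (e k K) := inferInstance
  haveI : LocallyOfFinitePresentation (e k K) := by
    rw [HasRingHomProperty.Spec_iff (P := @LocallyOfFinitePresentation)]
    exact RingHom.finitePresentation_algebraMap.2 (Algebra.FinitePresentation.of_finiteType.1 (inferInstanceAs (Algebra.FiniteType k K)))
  haveI : Surjective (e k K) := ⟨fun z => ⟨IsLocalRing.closedPoint K, Subsingleton.elim (α := PrimeSpectrum k) _ _⟩⟩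
  obtain ⟨I, hI⟩ := exists_split k K
  let j : (K ≃ₐ[k] K) → (pullback f (e k K) ⟶ pullback f (pullback.fst (e k K) (e k K) ≫ e k K)) := fun σ =>
    pullback.map f (e k K) f (pullback.fst (e k K) (e k K) ≫ e k K) (𝟙 X) (gr k K σ) (𝟙 _) (by simp)
      (by rw [Category.comp_id, ← Category.assoc, pullback.lift_fst, Category.id_comp])
  have hsq : ∀ σ, IsPullback (j σ) (pullback.snd f (e k K)) (pullback.snd f _) (gr k K σ) := fun σ => by
    refine IsPullback.of_right ?_ (pullback.lift_snd _ _ _) (IsPullback.of_hasPullback f _)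
    have e1 : j σ ≫ pullback.fst f _ = pullback.fst f (e k K) := (pullback.lift_fst _ _ _).trans (Category.comp_id _)
    rw [e1, ← Category.assoc, pullback.lift_fst, Category.id_comp]
    exact IsPullback.of_hasPullback f _
  haveI hgr : ∀ σ, IsOpenImmersion (gr k K σ) := fun σ => by rw [← hI σ]; infer_instance
  haveI : ∀ σ, IsOpenImmersion (j σ) := fun σ =>
    MorphismProperty.of_isPullback (P := @IsOpenImmersion) (hsq σ).flip (hgr σ)
  have hcov : ∀ z : ↥(pullback f (pullback.fst (e k K) (e k K) ≫ e k K)), ∃ σ w, j σ w = z := fun z => by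
    obtain ⟨σ, w, hw⟩ := (sigmaOpenCover fun _ : K ≃ₐ[k] K => Spec (CommRingCat.of K)).exists_eq
      (I.inv (pullback.snd f _ z))
    have hw' : gr k K σ w = pullback.snd f _ z := by
      rw [← hI σ, Scheme.Hom.comp_apply]
      erw [hw]
      rw [← Scheme.Hom.comp_apply, Iso.inv_hom_id]; rfl
    obtain ⟨r, hr, -⟩ := Scheme.Pullback.exists_preimage_pullback (f := pullback.snd f _) (g := gr k K σ) z w hw'.symm
    exact ⟨σ, (hsq σ).isoPullback.inv r, by rw [← Scheme.Hom.comp_apply, IsPullback.isoPullback_inv_fst]; exact hr⟩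
  have hdisj : ∀ σ τ, σ ≠ τ → ∀ w w', j σ w ≠ j τ w' := fun σ τ hne w w' he => by
    have he' := congrArg (pullback.snd f (pullback.fst (e k K) (e k K) ≫ e k K)) he
    rw [← Scheme.Hom.comp_apply, ← Scheme.Hom.comp_apply, (hsq σ).w, (hsq τ).w, Scheme.Hom.comp_apply,
      Scheme.Hom.comp_apply, ← hI σ, ← hI τ, Scheme.Hom.comp_apply, Scheme.Hom.comp_apply] at he'
    exact (disjoint_opensRange_sigmaι (fun _ : K ≃ₐ[k] K => Spec (CommRingCat.of K)) σ τ hne).le_bot
      ⟨⟨pullback.snd f (e k K) w, rfl⟩, ⟨pullback.snd f (e k K) w', (I.hom.isOpenEmbedding.injective he').symm⟩⟩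
  have hq : pull (q₁ f (e k K)) a = pull (q₂ f (e k K)) a := by
    refine eq_of_mul_inv_eq_one (RigDesc26.eq_one_of_disjoint j hcov hdisj fun σ => ?_)
    have h₁ : j σ ≫ q₁ f (e k K) = 𝟙 _ := by
      refine pullback.hom_ext ?_ ?_
      · rw [Category.assoc, PicDescent.q₁_fst]; simp [j]
      · simp [j, q₁]
    have h₂ : j σ ≫ q₂ f (e k K) = PicF2.twistAut f σ := by
      refine pullback.hom_ext ?_ ?_
      · rw [Category.assoc, PicDescent.q₂_fst]; simp [j, PicF2.twistAut]
      · simp [j, q₂, PicF2.twistAut]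
    rw [map_mul, map_inv, pull_comp, pull_comp, h₁, h₂, pull_id, ha σ, mul_inv_cancel]
  obtain ⟨n, -, hn⟩ := RigDesc26.exists_rigidified f x hx hb (e k K) a (eq_one_of_subsingleton _) hq
  exact ⟨n, hn⟩

end Finite

section Limit

variable {k : Type u} [Field k] {X : Scheme.{u}} (f : X ⟶ Spec (CommRingCat.of k)) [QuasiCompact f] [QuasiSeparated f]

open FEtLimit21 in
/-- Pullback from a stage is injective. -/
theorem eq_one_of_toStage (hH0 : IsIso f.appTop) (K : Type u) [Field K] [Algebra k K] (L : IntermediateField k K)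
    (a : Pic (pullback f (stageMap K L))) (h : pull (toStage K f L) a = 1) : a = 1 := by
  obtain ⟨M, hM, rfl⟩ := RigDesc26.exists_module a
  let g : Spec (CommRingCat.of K) ⟶ Spec (CommRingCat.of L) := Spec.map (CommRingCat.ofHom (algebraMap L K))
  haveI : Flat g := inferInstance
  haveI : Surjective g := ⟨fun z => ⟨IsLocalRing.closedPoint K, Subsingleton.elim (α := PrimeSpectrum L) _ _⟩⟩
  have hsq : IsPullback (toStage K f L) (pullback.snd f _) (pullback.snd f (stageMap K L)) g := by
    refine IsPullback.of_right ?_ (toStage_snd K f L) (IsPullback.of_hasPullback f _)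
    rw [toStage_fst, show g ≫ stageMap K L = Spec.map (CommRingCat.ofHom (algebraMap k K)) from ?_]
    · exact IsPullback.of_hasPullback f _
    · rw [stageMap, ← Spec.map_comp, ← CommRingCat.ofHom_comp, ← IsScalarTower.algebraMap_eq]
  haveI : Flat (stageMap K L) := inferInstance
  have h1 : pull (pullback.fst (pullback.snd f (stageMap K L)) g) (clsMod hM) = 1 := by
    rw [← hsq.isoPullback_inv_fst, ← pull_comp, h, map_one]
  obtain ⟨N, hN, ⟨ε⟩⟩ := Seesaw26.exists_base_of_flat_baseChange (pullback.snd f (stageMap K L))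
    (Seesaw26.bijective_app_of_flat_baseChange f (bijective_app_field f hH0) (stageMap K L)) g M hM
    (Coh.structureModule _) (ParaPair.isInvertible_structure _) (by
      exact ((clsMod_eq_one_iff (Ample.isInvertible_pullback _ hM)).1 ((clsMod_pullback _ hM).trans h1)).some ≪≫
        (Ample.nonempty_pullback_structureModule (pullback.snd (pullback.snd f (stageMap K L)) g)).some.symm)
  rw [show clsMod hM = clsMod (Ample.isInvertible_pullback _ hN) from (clsMod_eq_iff _ _).2 ⟨ε⟩, clsMod_pullback _ hN,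
    eq_one_of_subsingleton (clsMod hN), map_one]

open FEtLimit21 in
/-- **Galois descent** of classes. -/
theorem exists_of_fix_galois (x : Spec (CommRingCat.of k) ⟶ X) (hx : x ≫ f = 𝟙 _) (hH0 : IsIso f.appTop)
    (K : Type u) [Field K] [Algebra k K] [IsGalois k K] (a : Pic (pullback f (e k K)))
    (ha : ∀ σ : K ≃ₐ[k] K, pull (PicF2.twistAut f σ) a = a) :
    ∃ n : Pic X, pull (pullback.fst f (e k K)) n = a := by
  haveI : CompactSpace X := QuasiCompact.compactSpace_of_compactSpace f
  haveI : QuasiSeparatedSpace X := quasiSeparatedSpace_of_quasiSeparated f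
  obtain ⟨M, hM, rfl⟩ := RigDesc26.exists_module a
  obtain ⟨i, M₀, hM₀, ⟨ε⟩⟩ := AmpSpread10.exists_stage_invertible (isLimitBcCone K f) (L := M) hM
  haveI := i.unop.2
  let L₁ : IntermediateField k K := IntermediateField.normalClosure k i.unop.1 K
  have hle : i.unop.1 ≤ L₁ := i.unop.1.le_normalClosure
  haveI : Normal k L₁ := normalClosure.normal k i.unop.1 K
  haveI : FiniteDimensional k L₁ := inferInstance
  haveI : Algebra.IsSeparable k L₁ := inferInstance
  haveI : IsGalois k L₁ := ⟨⟩
  let φ : (op (⟨L₁, inferInstance⟩ : FinSub k K) : (FinSub k K)ᵒᵖ) ⟶ i := (homOfLE (show i.unop ≤ ⟨L₁, _⟩ from hle)).op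
  let b : Pic (pullback f (stageMap K L₁)) := pull ((bcDiag K f).map φ) (clsMod hM₀)
  have hb : pull (toStage K f L₁) b = clsMod hM := by
    show pull ((bcCone K f).π.app _) (pull ((bcDiag K f).map φ) (clsMod hM₀)) = _
    rw [pull_comp, (bcCone K f).w φ, ← clsMod_pullback _ hM₀]
    exact (clsMod_eq_iff _ _).2 ⟨ε⟩
  have hfix : ∀ τ : L₁ ≃ₐ[k] L₁, pull (PicF2.twistAut f τ) b = b := fun τ => by
    obtain ⟨σ, rfl⟩ := AlgEquiv.restrictNormalHom_surjective (F := k) (K₁ := L₁) K τ
    refine eq_of_mul_inv_eq_one (eq_one_of_toStage f hH0 K L₁ _ ?_)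
    have hc : toStage K f L₁ ≫ PicF2.twistAut f (AlgEquiv.restrictNormalHom L₁ σ) =
        PicF2.twistAut f σ ≫ toStage K f L₁ := by
      refine pullback.hom_ext ?_ ?_
      · simp [PicF2.twistAut]
      · simp only [PicF2.twistAut, Category.assoc, pullback.lift_snd, toStage_snd, toStage_snd_assoc,
          pullback.lift_snd_assoc, ← Spec.map_comp, ← CommRingCat.ofHom_comp]
        congr 3
        ext y
        exact AlgEquiv.restrictNormal_commutes σ L₁ y
    rw [map_mul, map_inv, pull_comp, hc, ← pull_comp, hb, ha σ, mul_inv_cancel]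
  obtain ⟨n, hn⟩ := exists_of_fix f x hx L₁ hH0 b hfix
  refine ⟨n, ?_⟩
  rw [← hb, ← hn, pull_comp]
  exact congrArg (fun g => pull g n) (toStage_fst K f L₁).symm

end Limit

end GrothLib.GalPic26
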